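import Groth.Agent.FibDense.Normalise
import Groth.Agent.Jacobson.FppfDescent
import Mathlib.Algebra.MvPolynomial.Funext
import Mathlib.Algebra.GCDMonoid.IntegrallyClosed
import Mathlib.RingTheory.Bezout
import Mathlib.RingTheory.Valuation.ValuationRing
import Mathlib.RingTheory.LittleWedderburn

/-!
# Closed points of the generic fibre below a closed point of the special fibre, avoiding a hypersurface
-/

set_option linter.style.haveILetI false

universe u

namespace Groth.Agent.FibDense

open IsLocalRing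

/-- Over a valuation ring a nonzero polynomial is a constant times a polynomial with a coefficient `1`. -/
theorem exists_C_mul_eq {V : Type u} [CommRing V] [IsDomain V] [ValuationRing V] {ι : Type*}
    {f : MvPolynomial ι V} (hf : f ≠ 0) :
    ∃ (c : V) (f₀ : MvPolynomial ι V) (d : ι →₀ ℕ), c ≠ 0 ∧ f = MvPolynomial.C c * f₀ ∧ f₀.coeff d = 1 := by
  have key : ∀ s : Finset (ι →₀ ℕ), s.Nonempty → ∃ d ∈ s, ∀ e ∈ s, f.coeff d ∣ f.coeff e := by
    intro s hs
    induction hs using Finset.Nonempty.cons_induction with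
    | singleton a => exact ⟨a, Finset.mem_singleton_self a, fun e he => by rw [Finset.mem_singleton.1 he]⟩
    | cons a s has hs ih =>
      obtain ⟨d, hd, hdall⟩ := ih
      rcases ValuationRing.dvd_total (f.coeff a) (f.coeff d) with h | h
      · refine ⟨a, Finset.mem_cons_self a s, fun e he => ?_⟩
        rcases Finset.mem_cons.1 he with rfl | he
        · exact dvd_rfl
        · exact h.trans (hdall e he)
      · refine ⟨d, Finset.mem_cons.2 (Or.inr hd), fun e he => ?_⟩
        rcases Finset.mem_cons.1 he with rfl | he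
        · exact h
        · exact hdall e he
  obtain ⟨d, hd, hall⟩ := key f.support (MvPolynomial.support_nonempty.2 hf)
  have hc : f.coeff d ≠ 0 := MvPolynomial.mem_support_iff.1 hd
  obtain ⟨f₀, hf₀⟩ : MvPolynomial.C (f.coeff d) ∣ f := (MvPolynomial.C_dvd_iff_dvd_coeff _ _).2 fun e => by
    by_cases he : e ∈ f.support
    · exact hall e he
    · rw [MvPolynomial.notMem_support_iff.1 he]; exact dvd_zero _
  refine ⟨f.coeff d, f₀, d, hc, hf₀, mul_left_cancel₀ hc ?_⟩
  rw [mul_one, ← MvPolynomial.coeff_C_mul, ← hf₀]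

theorem exists_prime_le_of_valuationRing (V S : Type u) [CommRing V] [IsDomain V] [ValuationRing V]
    [CommRing S] [IsDomain S] [Algebra V S] [Algebra.FiniteType V S]
    (hinj : Function.Injective (algebraMap V S)) (Q : Ideal S) [hQ : Q.IsMaximal]
    (hQm : Q.comap (algebraMap V S) = maximalIdeal V) (hne : maximalIdeal V ≠ ⊥) (g : S) (hg : g ≠ 0) :
    ∃ P : Ideal S, P.IsPrime ∧ P.comap (algebraMap V S) = ⊥ ∧ P ≤ Q ∧ g ∉ P ∧
      ∀ P' : Ideal S, P'.IsPrime → P'.comap (algebraMap V S) = ⊥ → P ≤ P' → P' = P := by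
  classical
  let m := maximalIdeal V
  let J := m.map (algebraMap V S)
  have hJQ : J ≤ Q := Ideal.map_le_iff_le_comap.2 (le_of_eq hQm.symm)
  let := Ideal.Quotient.field m
  let π := Ideal.Quotient.mk J
  have hJ : m ≤ J.comap (algebraMap V S) := Ideal.le_comap_map
  let : Algebra (V ⧸ m) (S ⧸ J) := (Ideal.quotientMap J (algebraMap V S) hJ).toAlgebra
  have : IsScalarTower V (V ⧸ m) (S ⧸ J) := IsScalarTower.of_algebraMap_eq fun v => rfl
  have : Algebra.FiniteType (V ⧸ m) (S ⧸ J) := Algebra.FiniteType.of_restrictScalars_finiteType V (V ⧸ m) (S ⧸ J)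
  let M : Ideal (S ⧸ J) := Q.map π
  have hMQ : M.comap π = Q := by
    rw [Ideal.comap_map_of_surjective _ Ideal.Quotient.mk_surjective, ← RingHom.ker_eq_comap_bot, Ideal.mk_ker,
      sup_eq_left.2 hJQ]
  have : M.IsMaximal := (Ideal.map_eq_top_or_isMaximal_of_surjective π Ideal.Quotient.mk_surjective hQ).resolve_left
    fun h => hQ.ne_top (by rw [← hMQ, show M = ⊤ from h, Ideal.comap_top])
  obtain ⟨d, h, hh, hhf, hhM⟩ := exists_finite_inj_algHom_mem (V ⧸ m) (S ⧸ J) M
  choose y hy using fun i => Ideal.Quotient.mk_surjective (I := J) (h (MvPolynomial.X i))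
  let C := MvPolynomial (Fin d) V
  let φ : C →ₐ[V] S := MvPolynomial.aeval y
  let σ : C →+* MvPolynomial (Fin d) (V ⧸ m) := MvPolynomial.map (Ideal.Quotient.mk m)
  have hσ : Function.Surjective σ := MvPolynomial.map_surjective _ Ideal.Quotient.mk_surjective
  have hcomm : ∀ p, π (φ p) = h (σ p) := fun p => by
    refine RingHom.congr_fun (f := π.comp φ.toRingHom) (g := h.toRingHom.comp σ)
      (MvPolynomial.ringHom_ext (fun v => ?_) (fun i => ?_)) p
    · show π (φ (MvPolynomial.C v)) = h (σ (MvPolynomial.C v))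
      rw [show φ (MvPolynomial.C v) = algebraMap V S v from φ.commutes v,
        show σ (MvPolynomial.C v) = algebraMap (V ⧸ m) _ (Ideal.Quotient.mk m v) from MvPolynomial.map_C _ v,
        h.commutes]
      rfl
    · show π (φ (MvPolynomial.X i)) = h (σ (MvPolynomial.X i))
      rw [show φ (MvPolynomial.X i) = y i from MvPolynomial.aeval_X _ _,
        show σ (MvPolynomial.X i) = MvPolynomial.X i from MvPolynomial.map_X _ _, hy]
  have hφ : Function.Injective φ := by
    rw [injective_iff_map_eq_zero]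
    intro p hp
    by_contra hp0
    obtain ⟨c, p₀, e, hc, rfl, he⟩ := exists_C_mul_eq hp0
    have h0 : φ p₀ = 0 := by
      rw [map_mul] at hp
      refine (mul_eq_zero.1 hp).resolve_left ?_
      rw [show φ (MvPolynomial.C c) = algebraMap V S c from φ.commutes c]
      exact fun h0 => hc (hinj (h0.trans (map_zero _).symm))
    have hz : σ p₀ = 0 := hh (by rw [← hcomm, h0, map_zero, map_zero])
    have := (MvPolynomial.coeff_map (Ideal.Quotient.mk m) p₀ e).symm.trans
      ((congrArg (MvPolynomial.coeff e) hz).trans (MvPolynomial.coeff_zero e))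
    rw [he, Ideal.Quotient.eq_zero_iff_mem] at this
    exact (IsLocalRing.maximalIdeal.isMaximal V).ne_top ((Ideal.eq_top_iff_one _).2 this)
  let : Algebra C S := φ.toRingHom.toAlgebra
  have : IsScalarTower V C S := IsScalarTower.of_algebraMap_eq fun v => (φ.commutes v).symm
  have : Algebra.FiniteType C S := Algebra.FiniteType.of_restrictScalars_finiteType V C S
  have := Jacobson.isIntegrallyClosed_mvPolynomial V d
  -- the zero-dimensional fibre through `Q`
  have hZ : Algebra.ZariskisMainProperty C Q := by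
    let J' := (Q.under C).map (algebraMap C S)
    have hJJ : J ≤ J' := Ideal.map_le_iff_le_comap.2 fun v hv => by
      show algebraMap V S v ∈ J'
      rw [IsScalarTower.algebraMap_apply V C S]
      refine Ideal.mem_map_of_mem _ ?_
      show algebraMap C S (algebraMap V C v) ∈ Q
      rw [← IsScalarTower.algebraMap_apply V C S]
      exact hJQ (Ideal.mem_map_of_mem _ hv)
    have hfin : (algebraMap C (S ⧸ J')).Finite := by
      have e : algebraMap C (S ⧸ J') = (Ideal.Quotient.factor hJJ).comp (h.toRingHom.comp σ) := by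
        refine RingHom.ext fun p => ?_
        exact congrArg (Ideal.Quotient.factor hJJ) (hcomm p)
      rw [e]
      exact Jacobson.finite_comp_comp (π := Ideal.Quotient.factor hJJ) (g := h.toRingHom) hσ hhf
        (Ideal.Quotient.factor_surjective hJJ)
    have : Module.Finite C (S ⧸ J') := RingHom.finite_algebraMap.1 hfin
    have : Algebra.WeaklyQuasiFiniteAt C Q := by
      unfold Algebra.WeaklyQuasiFiniteAt
      infer_instance
    exact .of_finiteType_of_weaklyQuasiFiniteAt Q
  obtain ⟨r, hrQ, hrint, hrall⟩ := Algebra.zariskisMainProperty_iff.1 hZ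
  let S' := integralClosure C S
  have : FaithfulSMul C S' := (faithfulSMul_iff_algebraMap_injective _ _).2
    fun p q e => hφ (congrArg Subtype.val e)
  have hint : Algebra.IsIntegral C S' := inferInstance
  let r' : S' := ⟨r, hrint⟩
  -- a rational point of affine space avoiding the hypersurface
  obtain ⟨n₀, hn₀⟩ := hrall g
  let g' : S' := ⟨r ^ n₀ * g, hn₀⟩
  have hr0 : r ≠ 0 := fun e => hrQ (e ▸ Q.zero_mem)
  have hg' : g' ≠ 0 := fun e => mul_ne_zero (pow_ne_zero n₀ hr0) hg (congrArg Subtype.val e)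
  obtain ⟨c, hc, hcg⟩ : ∃ c : C, c ≠ 0 ∧ algebraMap C S' c ∈ Ideal.span {g'} := by
    by_contra! hcon
    have h1 : (Ideal.span {g'}).comap (algebraMap C S') = ⊥ := eq_bot_iff.2 fun x hx => by
      by_contra hx0
      exact hcon x hx0 hx
    exact hg' (Ideal.span_singleton_eq_bot.1 (Ideal.eq_bot_of_comap_eq_bot h1))
  have hminf : (m : Set V).Infinite := by
    obtain ⟨t, htm, ht0⟩ := (Submodule.ne_bot_iff _).1 hne
    have hVinf : Infinite V := by
      by_contra hfin
      rw [not_infinite_iff_finite] at hfin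
      exact hne (IsLocalRing.isField_iff_maximalIdeal_eq.1 (Finite.isField_of_domain V))
    exact (Set.infinite_range_of_injective fun a b e => mul_left_cancel₀ ht0 e).mono
      (s := Set.range fun v => t * v) (by rintro _ ⟨v, rfl⟩; exact m.mul_mem_right v htm)
  obtain ⟨a, ha, hca⟩ : ∃ a ∈ Set.pi Set.univ (fun _ : Fin d => (m : Set V)), MvPolynomial.eval a c ≠ 0 := by
    by_contra! hcon
    exact hc (MvPolynomial.funext_set (fun _ => (m : Set V)) (fun _ => hminf)
      fun x hx => by rw [hcon x hx, map_zero])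
  let ev : C →+* V := MvPolynomial.eval a
  have : (RingHom.ker ev).IsPrime := RingHom.ker_isPrime _
  have hev : ∀ p : C, φ p ∈ Q ↔ algebraMap V S (ev p) ∈ Q := fun p => by
    have h1 : (Ideal.Quotient.mk Q).comp φ.toRingHom =
        ((Ideal.Quotient.mk Q).comp (algebraMap V S)).comp ev := by
      refine MvPolynomial.ringHom_ext (fun v => ?_) (fun i => ?_)
      · simp only [RingHom.comp_apply, ev, MvPolynomial.eval_C]
        exact congrArg _ (φ.commutes v)
      · simp only [RingHom.comp_apply, ev, MvPolynomial.eval_X]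
        have hyQ : y i ∈ Q := by rw [← hMQ, Ideal.mem_comap, hy]; exact hhM i
        have haQ : algebraMap V S (a i) ∈ Q := hJQ (Ideal.mem_map_of_mem _ (ha i (Set.mem_univ i)))
        rw [show φ.toRingHom (MvPolynomial.X i) = y i from MvPolynomial.aeval_X _ _,
          Ideal.Quotient.eq_zero_iff_mem.2 hyQ, Ideal.Quotient.eq_zero_iff_mem.2 haQ]
    rw [← Ideal.Quotient.eq_zero_iff_mem, ← Ideal.Quotient.eq_zero_iff_mem]
    exact Eq.congr_left (RingHom.congr_fun h1 p)
  let Qs : Ideal S' := Q.comap (algebraMap S' S)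
  have : Qs.IsPrime := Ideal.IsPrime.comap _
  have hker : RingHom.ker ev ≤ Qs.under C := fun p hp => by
    show φ p ∈ Q
    rw [hev, RingHom.mem_ker.1 hp, map_zero]
    exact Q.zero_mem
  obtain ⟨P', hP'Q, hP', hP'o⟩ := Ideal.exists_ideal_le_liesOver_of_le (q := Qs.under C) Qs hker
  have hr' : r' ∉ P' := fun e => hrQ (hP'Q e)
  have hP'C : ∀ p : C, algebraMap C S' p ∈ P' ↔ ev p = 0 := fun p => by
    rw [← RingHom.mem_ker, hP'o.over]; rfl
  let P : Ideal S :=
    { carrier := {x | ∃ (n : ℕ) (hn : r ^ n * x ∈ S'), (⟨_, hn⟩ : S') ∈ P'}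
      zero_mem' := ⟨0, by rw [mul_zero]; exact S'.zero_mem, by
        convert P'.zero_mem using 1
        exact Subtype.ext (mul_zero _)⟩
      add_mem' := by
        rintro x z ⟨n, hn, hx⟩ ⟨l, hl, hz⟩
        have e : r ^ (n + l) * (x + z) = r ^ l * (r ^ n * x) + r ^ n * (r ^ l * z) := by rw [pow_add]; ring
        refine ⟨n + l, ?_, ?_⟩
        · rw [e]
          exact S'.add_mem (S'.mul_mem (S'.pow_mem hrint l) hn) (S'.mul_mem (S'.pow_mem hrint n) hl)
        · convert P'.add_mem (P'.mul_mem_left (r' ^ l) hx) (P'.mul_mem_left (r' ^ n) hz) using 1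
          exact Subtype.ext e
      smul_mem' := by
        rintro s x ⟨n, hn, hx⟩
        obtain ⟨l, hl⟩ := hrall s
        have e : r ^ (l + n) * (s • x) = (r ^ l * s) * (r ^ n * x) := by rw [smul_eq_mul, pow_add]; ring
        refine ⟨l + n, ?_, ?_⟩
        · rw [e]
          exact S'.mul_mem hl hn
        · convert P'.mul_mem_left ⟨_, hl⟩ hx using 1
          exact Subtype.ext e }
  have hmem : ∀ (z : S'), z.1 ∈ P ↔ z ∈ P' := fun z => by
    refine ⟨fun ⟨n, hn, hz⟩ => ?_, fun hz => ⟨0, by rw [pow_zero, one_mul]; exact z.2, by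
      convert hz using 1; exact Subtype.ext (by simp)⟩⟩
    have : r' ^ n * z ∈ P' := by convert hz using 1; exact Subtype.ext rfl
    exact (hP'.mem_or_mem this).resolve_left fun h => hr' (hP'.mem_of_pow_mem n h)
  have hPQ : P ≤ Q := fun x ⟨n, hn, hx⟩ =>
    ((hQ.isPrime).mem_or_mem (hP'Q hx : r ^ n * x ∈ Q)).resolve_left
      fun h => hrQ (hQ.isPrime.mem_of_pow_mem n h)
  have hPp : P.IsPrime := by
    refine ⟨fun htop => hQ.ne_top (top_le_iff.1 (htop ▸ hPQ)), ?_⟩
    intro x z hxz
    obtain ⟨n, hn⟩ := hrall x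
    obtain ⟨l, hl⟩ := hrall z
    have : (⟨_, hn⟩ * ⟨_, hl⟩ : S') ∈ P' := by
      rw [← hmem]
      show r ^ n * x * (r ^ l * z) ∈ P
      rw [show r ^ n * x * (r ^ l * z) = (r ^ n * r ^ l) * (x * z) by ring]
      exact P.mul_mem_left _ hxz
    rcases hP'.mem_or_mem this with h | h
    · exact Or.inl ⟨n, hn, h⟩
    · exact Or.inr ⟨l, hl, h⟩
  have hPV : P.comap (algebraMap V S) = ⊥ := eq_bot_iff.2 fun v hv => by
    have : algebraMap C S' (MvPolynomial.C v) ∈ P' := by
      rw [← hmem]
      show φ (MvPolynomial.C v) ∈ P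
      rw [show φ (MvPolynomial.C v) = algebraMap V S v from φ.commutes v]
      exact hv
    rw [hP'C] at this
    rw [Ideal.mem_bot, ← this]
    exact (MvPolynomial.eval_C v).symm
  refine ⟨P, hPp, hPV, hPQ, fun hgP => ?_, fun P₁ hP₁ hP₁V hle => ?_⟩
  · have h1 : g' ∈ P' := (hmem g').1 (P.mul_mem_left _ hgP)
    exact hca ((hP'C c).1 ((Ideal.span_singleton_le_iff_mem _).2 h1 hcg))
  · refine le_antisymm (fun x hx => ?_) hle
    let P₁' : Ideal S' := P₁.comap (algebraMap S' S)
    have : P₁'.IsPrime := Ideal.IsPrime.comap _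
    have hle' : P' ≤ P₁' := fun z hz => hle ((hmem z).2 hz)
    have heq : P₁' = P' := by
      by_contra hne'
      have hlt : P'.comap (algebraMap C S') < P₁'.comap (algebraMap C S') :=
        Ideal.IsIntegral.comap_lt_comap (R := C) (lt_of_le_of_ne hle' (Ne.symm hne'))
      obtain ⟨-, p, hp, hpn⟩ := SetLike.lt_iff_le_and_exists.1 hlt
      have h2 : algebraMap C S' (p - MvPolynomial.C (ev p)) ∈ P₁' :=
        hle' ((hP'C _).2 (by
          show MvPolynomial.eval a (p - MvPolynomial.C (MvPolynomial.eval a p)) = 0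
          rw [map_sub, MvPolynomial.eval_C, sub_self]))
      have hp' : algebraMap C S' p ∈ P₁' := hp
      rw [map_sub] at h2
      have h3 : algebraMap C S' (MvPolynomial.C (ev p)) ∈ P₁' := by
        have := P₁'.sub_mem hp' h2
        rwa [sub_sub_cancel] at this
      have h4 : ev p ∈ P₁.comap (algebraMap V S) := by
        show algebraMap V S (ev p) ∈ P₁
        rw [← φ.commutes]
        exact h3
      rw [hP₁V, Ideal.mem_bot] at h4
      exact hpn ((hP'C p).2 h4)
    obtain ⟨n, hn⟩ := hrall x
    refine ⟨n, hn, ?_⟩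
    rw [← heq]
    exact P₁.mul_mem_left _ hx

end Groth.Agent.FibDense
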