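import Groth.Agent.FibDense.Reduce
import Groth.Agent.CharCycDim.Basic
import Groth.Agent.DimFormula.QuasiSection
import Groth.Agent.VarDim.Local
import Mathlib.AlgebraicGeometry.Morphisms.Flat

/-!
# Lifting curves along flat proper morphisms
-/

set_option autoImplicit false
set_option linter.style.haveILetI false
set_option backward.isDefEq.respectTransparency false

universe u

open CategoryTheory AlgebraicGeometry TopologicalSpace

namespace Groth.Agent.FibDense

open Groth.Agent FibDim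

variable {k : Type u} [Field k] {Y Z : Scheme.{u}} (g : Z ⟶ Spec (CommRingCat.of k)) [LocallyOfFiniteType g]
  (f : Y ⟶ Z) [Flat f] [LocallyOfFiniteType f]

/-- A point in the fibre over a generization, closed in that fibre, specializing to a given closed point. -/
theorem exists_closed_in_fibre {q : Y} (hqc : IsClosed ({q} : Set Y)) {ξ : Z} (hξ : ξ ⤳ f q) (hne : ξ ≠ f q) :
    ∃ π : Y, π ⤳ q ∧ f π = ξ ∧ ∀ x, f x = f π → π ⤳ x → x = π := by
  obtain ⟨η, hη, hηξ⟩ := Flat.generalizingMap f hξ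
  obtain ⟨U, hU, hqU, -⟩ := exists_isAffineOpen_mem_and_subset (x := f q) (U := (⊤ : Z.Opens)) trivial
  obtain ⟨V, hV, hqV, hVU⟩ := exists_isAffineOpen_mem_and_subset (x := q) (U := f ⁻¹ᵁ U) hqU
  obtain ⟨a, rfl⟩ := VarDim.exists_fromSpec_eq hV (hη.mem_open V.2 hqV)
  obtain ⟨m, rfl⟩ := VarDim.exists_fromSpec_eq hV hqV
  let φ := f.appLE U V hVU
  have hfm : ∀ P : PrimeSpectrum Γ(Y, V), f (hV.fromSpec P) = hU.fromSpec (PrimeSpectrum.comap φ.hom P) := fun P => by
    rw [← Scheme.Hom.comp_apply, ← IsAffineOpen.SpecMap_appLE_fromSpec f hU hV hVU]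
    rfl
  let b := PrimeSpectrum.comap φ.hom a
  letI : Algebra (Γ(Z, U) ⧸ b.asIdeal) (Γ(Y, V) ⧸ a.asIdeal) :=
    (Ideal.quotientMap a.asIdeal φ.hom le_rfl).toAlgebra
  haveI : Algebra.FiniteType (Γ(Z, U) ⧸ b.asIdeal) (Γ(Y, V) ⧸ a.asIdeal) := by
    refine RingHom.FiniteType.of_comp_finiteType (f := Ideal.Quotient.mk b.asIdeal) ?_
    change ((Ideal.Quotient.mk a.asIdeal).comp φ.hom).FiniteType
    exact (f.finiteType_appLE hU hV hVU).comp_surjective Ideal.Quotient.mk_surjective
  let A := Γ(Y, V) ⧸ a.asIdeal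
  have hinj : Function.Injective (algebraMap (Γ(Z, U) ⧸ b.asIdeal) A) :=
    Ideal.quotientMap_injective' (H := le_rfl) le_rfl
  have ham : a.asIdeal ≤ m.asIdeal := (VarDim.fromSpec_specializes_iff hV a m).1 hη
  let Q : Ideal A := m.asIdeal.map (Ideal.Quotient.mk _)
  have hQc : Q.comap (Ideal.Quotient.mk _) = m.asIdeal := by
    rw [Ideal.comap_map_of_surjective _ Ideal.Quotient.mk_surjective, ← RingHom.ker_eq_comap_bot, Ideal.mk_ker,
      sup_eq_left.2 ham]
  haveI : Q.IsPrime := Ideal.map_isPrime_of_surjective Ideal.Quotient.mk_surjective (by rwa [Ideal.mk_ker])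
  have hcomap : ∀ J : Ideal A, (J.comap (algebraMap (Γ(Z, U) ⧸ b.asIdeal) A)).comap (Ideal.Quotient.mk _) =
      (J.comap (Ideal.Quotient.mk _)).comap φ.hom := fun J => by
    rw [Ideal.comap_comap, Ideal.comap_comap]
    rfl
  have hQ : Q.comap (algebraMap (Γ(Z, U) ⧸ b.asIdeal) A) ≠ ⊥ := fun h => by
    have h1 := hcomap Q
    rw [h, hQc, ← RingHom.ker_eq_comap_bot, Ideal.mk_ker] at h1
    refine hne ?_
    rw [← hηξ, hfm, hfm]
    exact congrArg _ (PrimeSpectrum.ext h1)
  have hQmax : ∀ Q' : Ideal A, Q'.IsPrime → Q'.comap (algebraMap (Γ(Z, U) ⧸ b.asIdeal) A) =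
      Q.comap (algebraMap (Γ(Z, U) ⧸ b.asIdeal) A) → Q ≤ Q' → Q' = Q := fun Q' hQ' _ hle => by
    haveI := hQ'
    let n : PrimeSpectrum Γ(Y, V) := ⟨Q'.comap (Ideal.Quotient.mk _), inferInstance⟩
    have h1 : hV.fromSpec n = hV.fromSpec m := hqc.closure_eq.le (specializes_iff_mem_closure.1
      ((VarDim.fromSpec_specializes_iff hV m n).2 (hQc.symm.trans_le (Ideal.comap_mono hle))))
    refine Ideal.comap_injective_of_surjective _ Ideal.Quotient.mk_surjective ?_
    rw [hQc]
    exact congrArg PrimeSpectrum.asIdeal (hV.fromSpec.isOpenEmbedding.injective h1)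
  obtain ⟨P, hP, hP0, hPQ, -, hPmax⟩ := exists_prime_le hinj Q hQ hQmax 1 one_ne_zero
  let π : PrimeSpectrum Γ(Y, V) := ⟨P.comap (Ideal.Quotient.mk _), inferInstance⟩
  have hπb : f (hV.fromSpec π) = f (hV.fromSpec a) := by
    rw [hfm, hfm]
    refine congrArg _ (PrimeSpectrum.ext ?_)
    show (P.comap (Ideal.Quotient.mk _)).comap φ.hom = b.asIdeal
    rw [← hcomap, hP0, ← RingHom.ker_eq_comap_bot, Ideal.mk_ker]
  refine ⟨hV.fromSpec π, (VarDim.fromSpec_specializes_iff hV π m).2 ((Ideal.comap_mono hPQ).trans hQc.le), hπb.trans hηξ,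
    fun x hx hπx => ?_⟩
  by_contra hxne
  haveI : LocallyOfFiniteType (f.fiberToSpecResidueField (f (hV.fromSpec π))) :=
    MorphismProperty.pullback_snd _ _ inferInstance
  obtain ⟨w, hw⟩ : hV.fromSpec π ∈ Set.range (f.fiberι (f (hV.fromSpec π))) := by
    rw [Scheme.Hom.range_fiberι]; rfl
  haveI : JacobsonSpace ↥(f.fiber (f (hV.fromSpec π))) :=
    LocallyOfFiniteType.jacobsonSpace (f.fiberToSpecResidueField (f (hV.fromSpec π)))
  have hclosed : IsClosed ({w} : Set ↥(f.fiber (f (hV.fromSpec π)))) := by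
    refine isClosed_singleton_of_isLocallyClosed_singleton ?_
    refine ⟨↑(f.fiberι (f (hV.fromSpec π)) ⁻¹ᵁ V), closure {w}, (f.fiberι (f (hV.fromSpec π)) ⁻¹ᵁ V).isOpen, isClosed_closure, ?_⟩
    refine Eq.symm (Set.eq_singleton_iff_unique_mem.2 ⟨⟨?_, subset_closure rfl⟩, fun v hv => ?_⟩)
    · show f.fiberι _ w ∈ V
      rw [hw]
      exact VarDim.fromSpec_mem hV π
    obtain ⟨n, hn⟩ := VarDim.exists_fromSpec_eq hV hv.1
    have hvw : f.fiberι _ w ⤳ f.fiberι _ v := (specializes_iff_mem_closure.2 hv.2).map (f.fiberι _).continuous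
    rw [hw, ← hn, VarDim.fromSpec_specializes_iff] at hvw
    refine (f.fiberι _).isEmbedding.injective ?_
    rw [hw, ← hn]
    refine congrArg _ (PrimeSpectrum.ext ?_)
    have han : a.asIdeal ≤ n.asIdeal :=
      le_trans (fun c hc => by
        show Ideal.Quotient.mk a.asIdeal c ∈ P
        rw [Ideal.Quotient.eq_zero_iff_mem.2 hc]
        exact P.zero_mem) hvw
    let P' : Ideal A := n.asIdeal.map (Ideal.Quotient.mk _)
    have hP'c : P'.comap (Ideal.Quotient.mk _) = n.asIdeal := by
      rw [Ideal.comap_map_of_surjective _ Ideal.Quotient.mk_surjective, ← RingHom.ker_eq_comap_bot, Ideal.mk_ker,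
        sup_eq_left.2 han]
    have h1 : P' = P := by
      refine hPmax P' (Ideal.map_isPrime_of_surjective Ideal.Quotient.mk_surjective (by rwa [Ideal.mk_ker])) ?_ ?_
      · refine Ideal.comap_injective_of_surjective _ Ideal.Quotient.mk_surjective ?_
        rw [hcomap, hP'c, ← RingHom.ker_eq_comap_bot, Ideal.mk_ker]
        have h2 : f (hV.fromSpec n) = f (hV.fromSpec a) := by
          rw [hn, (f.range_fiberι _).le ⟨v, rfl⟩]
          exact hπb
        rw [hfm, hfm] at h2
        exact congrArg PrimeSpectrum.asIdeal (hU.fromSpec.isOpenEmbedding.injective h2)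
      · rw [← Ideal.map_comap_of_surjective _ Ideal.Quotient.mk_surjective P]
        exact Ideal.map_mono hvw
    rw [← hP'c, h1]
  obtain ⟨v, hv⟩ : x ∈ Set.range (f.fiberι (f (hV.fromSpec π))) := by
    rw [Scheme.Hom.range_fiberι]; exact hx
  have h3 : w ⤳ v := by
    rw [← (f.fiberι _).isEmbedding.isInducing.specializes_iff, hw, hv]; exact hπx
  exact hxne (hv.symm.trans ((congrArg (f.fiberι (f (hV.fromSpec π))) (hclosed.closure_eq.le (specializes_iff_mem_closure.1 h3))).trans hw))

include g in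
/-- An irreducible curve lifts to a curve finite over it through any closed point above a closed point. -/
theorem exists_curve_lift [UniversallyClosed f] [CompactSpace Y] (B : Set Z) (hBc : IsClosed B) (hBi : IsIrreducible B)
    (hBd : topologicalKrullDim ↥B = 1) (q : Y) (hqc : IsClosed ({q} : Set Y)) (hq : f q ∈ B) :
    ∃ B' : Set Y, IsClosed B' ∧ IsIrreducible B' ∧ q ∈ B' ∧ f '' B' = B ∧ ∀ z : Z, (B' ∩ f ⁻¹' {z}).Finite := by
  obtain ⟨ξ, hξ⟩ := QuasiSober.sober hBi hBc
  have hξ1 : rd g ξ = 1 := by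
    have h := CharCycDim.dim_range_closure_singleton g ξ
    rw [hξ.def, hBd] at h
    exact_mod_cast h.symm
  have hne : ξ ≠ f q := fun h => by
    have h1 : rd g (f q) = 0 := DimFormula.rd_eq_zero_of_closed g fun x' _ hsp => by
      have hc : IsClosed ({f q} : Set Z) := by
        have := f.isClosedMap _ hqc
        rwa [Set.image_singleton] at this
      exact hc.closure_eq.le (specializes_iff_mem_closure.1 hsp)
    rw [← h, hξ1] at h1
    exact one_ne_zero h1
  obtain ⟨π, hπq, hfπ, hπmax⟩ := exists_closed_in_fibre f hqc (hξ.specializes hq) hne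
  have hπ1 : rd (f ≫ g) π = 1 := by
    rw [rd_comp, DimFormula.rd_eq_zero_of_closed f hπmax, hfπ, hξ1]
  have himg : f '' closure {π} = B := by
    rw [← (f.isClosedMap).closure_image_eq_of_continuous f.continuous, Set.image_singleton, hfπ, hξ.def]
  refine ⟨closure {π}, isClosed_closure, isIrreducible_singleton.closure, specializes_iff_mem_closure.1 hπq, himg,
    fun z => ?_⟩
  haveI : IsLocallyNoetherian Z := LocallyOfFiniteType.isLocallyNoetherian g
  haveI : IsLocallyNoetherian Y := LocallyOfFiniteType.isLocallyNoetherian f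
  haveI : IsNoetherian Y := {}
  haveI : NoetherianSpace Y := inferInstance
  by_cases hz : z = ξ
  · refine (Set.finite_singleton π).subset fun x hx => hπmax x (hx.2.trans (hz.trans hfπ.symm))
      (specializes_iff_mem_closure.2 hx.1)
  rcases Set.eq_empty_or_nonempty (closure ({π} : Set Y) ∩ f ⁻¹' {z}) with h | ⟨x₀, hx₀⟩
  · rw [h]; exact Set.finite_empty
  have hpts : ∀ x ∈ closure ({π} : Set Y) ∩ f ⁻¹' {z}, IsClosed ({x} : Set Y) := fun x hx => by
    have hxne : π ≠ x := fun h => hz (by rw [← hfπ, h]; exact hx.2.symm)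
    have h1 := rd_lt (f ≫ g) (specializes_iff_mem_closure.2 hx.1) hxne (Subsingleton.elim _ _)
    rw [hπ1] at h1
    refine closure_eq_iff_isClosed.1 (Set.eq_singleton_iff_unique_mem.2 ⟨subset_closure rfl, fun y hy => ?_⟩)
    by_contra hyx
    have := rd_lt (f ≫ g) (specializes_iff_mem_closure.2 hy) (Ne.symm hyx) (Subsingleton.elim _ _)
    omega
  have hfz : IsClosed ({z} : Set Z) := by
    have := f.isClosedMap _ (hpts x₀ hx₀)
    rwa [Set.image_singleton, show f x₀ = z from hx₀.2] at this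
  let K : Closeds Y := ⟨closure {π} ∩ f ⁻¹' {z}, isClosed_closure.inter (hfz.preimage f.continuous)⟩
  obtain ⟨T, hT, hTirr, hTs⟩ := NoetherianSpace.exists_finite_set_closeds_irreducible K
  have hsub : ∀ C ∈ T, (C : Set Y).Subsingleton := fun C hC => by
    obtain ⟨η, hη⟩ := QuasiSober.sober (hTirr C hC) C.isClosed
    have hηmem : η ∈ closure ({π} : Set Y) ∩ f ⁻¹' {z} := by
      show η ∈ (K : Set Y)
      rw [hTs]
      exact (le_sSup hC : C ≤ sSup T) hη.mem
    rw [← hη.def, (hpts η hηmem).closure_eq]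
    exact Set.subsingleton_singleton
  have : (K : Set Y) ⊆
      ⋃ C ∈ T, (C : Set Y) := by
    rw [hTs, ← hT.coe_toFinset, ← Finset.sup_id_eq_sSup, Closeds.coe_finset_sup]
    intro x hx
    simpa using hx
  exact (hT.biUnion fun C hC => (hsub C hC).finite).subset this

end Groth.Agent.FibDense
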