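import Mathlib.RingTheory.NoetherNormalization
import Mathlib.RingTheory.Jacobson.Ring
import Mathlib.RingTheory.AlgebraicIndependent.Transcendental
import Mathlib.RingTheory.FiniteType
import Mathlib.FieldTheory.Minpoly.Field
import Mathlib.RingTheory.IntegralClosure.IsIntegralClosure.Basic

/-!
# Noether normalisation with variables vanishing at a given maximal ideal
-/

set_option linter.style.haveILetI false

universe u

namespace Groth.Agent.FibDense

open MvPolynomial

theorem exists_finite_inj_algHom_mem (k A : Type u) [Field k] [CommRing A] [Algebra k A]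
    [Algebra.FiniteType k A] (M : Ideal A) [hM : M.IsMaximal] :
    ∃ (d : ℕ) (h : MvPolynomial (Fin d) k →ₐ[k] A),
      Function.Injective h ∧ h.toRingHom.Finite ∧ ∀ i, h (X i) ∈ M := by
  classical
  haveI : Nontrivial A := ⟨⟨0, 1, fun e => hM.ne_top ((Ideal.eq_top_iff_one _).2 (e ▸ M.zero_mem))⟩⟩
  obtain ⟨d, g, hg, hgf⟩ := exists_finite_inj_algHom_of_fg k A
  letI : Field (A ⧸ M) := Ideal.Quotient.field M
  haveI : Algebra.FiniteType k (A ⧸ M) :=
    Algebra.FiniteType.of_surjective (Ideal.Quotient.mkₐ k M) (Ideal.Quotient.mkₐ_surjective k M)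
  haveI : Module.Finite k (A ⧸ M) := finite_of_finite_type_of_isJacobsonRing k (A ⧸ M)
  have hint : ∀ i, IsIntegral k (Ideal.Quotient.mkₐ k M (g (X i))) := fun i => Algebra.IsIntegral.isIntegral _
  let q : Fin d → Polynomial k := fun i => minpoly k (Ideal.Quotient.mkₐ k M (g (X i)))
  have hqm : ∀ i, (q i).Monic := fun i => minpoly.monic (hint i)
  have hqd : ∀ i, 0 < (q i).natDegree := fun i => minpoly.natDegree_pos (hint i)
  let h : MvPolynomial (Fin d) k →ₐ[k] A := aeval fun i => Polynomial.aeval (g (X i)) (q i)
  have hi : AlgebraicIndependent k fun i => g (X i) := by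
    have : (fun i => g (X i)) = g ∘ X := rfl
    rw [this]
    exact (MvPolynomial.algebraicIndependent_X (Fin d) k).map' hg
  have hh : Function.Injective h :=
    hi.polynomial_aeval_of_transcendental fun i => transcendental_iff.2 fun p hp => by
      rw [Polynomial.aeval_def, Polynomial.algebraMap_eq, ← Polynomial.comp] at hp
      rcases Polynomial.comp_eq_zero_iff.1 hp with h0 | ⟨-, h0⟩
      · exact h0
      · have := hqd i
        rw [h0, Polynomial.natDegree_C] at this
        exact absurd this (lt_irrefl 0)
  refine ⟨d, h, hh, ?_, fun i => ?_⟩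
  · letI : Algebra (MvPolynomial (Fin d) k) A := h.toRingHom.toAlgebra
    haveI : IsScalarTower k (MvPolynomial (Fin d) k) A := IsScalarTower.of_algebraMap_eq fun c => (h.commutes c).symm
    haveI : Algebra.FiniteType (MvPolynomial (Fin d) k) A := Algebra.FiniteType.of_restrictScalars_finiteType k _ _
    let B := integralClosure (MvPolynomial (Fin d) k) A
    have hgB : ∀ p, g p ∈ B := by
      intro p
      induction p using MvPolynomial.induction_on with
      | C c =>
        rw [show g (C c) = algebraMap k A c from g.commutes c,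
          IsScalarTower.algebraMap_apply k (MvPolynomial (Fin d) k) A]
        exact B.algebraMap_mem _
      | add p q hp hq => rw [map_add]; exact B.add_mem hp hq
      | mul_X p i hp =>
        rw [map_mul]
        refine B.mul_mem hp ?_
        refine ⟨(q i).map (algebraMap k _) - Polynomial.C (X i),
          ((hqm i).map _).sub_of_left ?_, ?_⟩
        · rw [Polynomial.degree_map]
          exact lt_of_le_of_lt Polynomial.degree_C_le (Polynomial.natDegree_pos_iff_degree_pos.1 (hqd i))
        · rw [← Polynomial.aeval_def, map_sub, Polynomial.aeval_map_algebraMap, Polynomial.aeval_C]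
          exact sub_eq_zero.2 (MvPolynomial.aeval_X (fun i => Polynomial.aeval (g (X i)) (q i)) i).symm
    haveI : Algebra.IsIntegral (MvPolynomial (Fin d) k) A := ⟨fun x => by
      obtain ⟨p, hpm, hp⟩ := RingHom.Finite.to_isIntegral hgf x
      let g' : MvPolynomial (Fin d) k →+* B := g.toRingHom.codRestrict B.toSubring hgB
      have hx : IsIntegral B x := ⟨p.map g', hpm.map _, by rw [Polynomial.eval₂_map]; exact hp⟩
      exact isIntegral_trans (R := MvPolynomial (Fin d) k) (A := B) x hx⟩
    haveI : Module.Finite (MvPolynomial (Fin d) k) A := Algebra.IsIntegral.finite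
    exact RingHom.finite_algebraMap.2 inferInstance
  · rw [← Ideal.Quotient.eq_zero_iff_mem]
    show Ideal.Quotient.mkₐ k M (h (X i)) = 0
    rw [show h (X i) = Polynomial.aeval (g (X i)) (q i) from MvPolynomial.aeval_X _ i,
      ← Polynomial.aeval_algHom_apply]
    exact minpoly.aeval k _

end Groth.Agent.FibDense
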