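import Groth.Agent.FibDense.Core
import Mathlib.RingTheory.Valuation.LocalSubring

/-!
# Reduction to a valuation ring
-/

set_option linter.style.haveILetI false

universe u

namespace Groth.Agent.FibDense

open IsLocalRing

theorem exists_prime_le {R A : Type u} [CommRing R] [IsDomain R] [CommRing A] [IsDomain A] [Algebra R A]
    [Algebra.FiniteType R A] (hinj : Function.Injective (algebraMap R A)) (Q : Ideal A) [Q.IsPrime]
    (hQ : Q.comap (algebraMap R A) ≠ ⊥)
    (hQmax : ∀ Q' : Ideal A, Q'.IsPrime → Q'.comap (algebraMap R A) = Q.comap (algebraMap R A) → Q ≤ Q' → Q' = Q)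
    (g : A) (hg : g ≠ 0) :
    ∃ P : Ideal A, P.IsPrime ∧ P.comap (algebraMap R A) = ⊥ ∧ P ≤ Q ∧ g ∉ P ∧
      ∀ P' : Ideal A, P'.IsPrime → P'.comap (algebraMap R A) = ⊥ → P ≤ P' → P' = P := by
  classical
  let L := FractionRing A
  let K := FractionRing R
  let φ : A →+* L := algebraMap A L
  have hφ : Function.Injective φ := IsFractionRing.injective A L
  have hφR : Function.Injective (φ.comp (algebraMap R A)) := hφ.comp hinj
  let ψ : K →+* L := IsFractionRing.lift hφR
  have hψ : ∀ r, ψ (algebraMap R K r) = φ (algebraMap R A r) := fun r => IsFractionRing.lift_algebraMap _ r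
  have hu : ∀ s : Q.primeCompl, IsUnit (φ s) := fun s => isUnit_iff_ne_zero.2 fun e =>
    s.2 (by rw [hφ (e.trans (map_zero φ).symm)]; exact Q.zero_mem)
  obtain ⟨W, hW, hloc⟩ := IsLocalRing.exists_factor_valuationRing
    (IsLocalization.lift (S := Localization.AtPrime Q) hu)
  have hφW : ∀ a, φ a ∈ W := fun a => by simpa using hW (algebraMap A _ a)
  let φW : A →+* W := φ.codRestrict W.toSubring hφW
  have hQW : ∀ a, φW a ∈ maximalIdeal W ↔ a ∈ Q := fun a => by
    rw [mem_maximalIdeal, mem_nonunits_iff,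
      show φW a = (IsLocalization.lift (S := Localization.AtPrime Q) hu).codRestrict W.toSubring hW
        (algebraMap A _ a) from Subtype.ext (IsLocalization.lift_eq hu a).symm]
    rw [show IsUnit ((IsLocalization.lift (S := Localization.AtPrime Q) hu).codRestrict W.toSubring hW
      (algebraMap A _ a)) ↔ IsUnit (algebraMap A (Localization.AtPrime Q) a) from
        ⟨fun h => hloc.map_nonunit _ h, fun h => h.map _⟩]
    exact (not_congr (IsLocalization.AtPrime.isUnit_to_map_iff _ Q a)).trans (by simp [Ideal.primeCompl])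
  let V := W.comap ψ
  let : Algebra V L := (ψ.comp V.subtype).toAlgebra
  let ιV : R →+* V := (algebraMap R K).codRestrict V.toSubring fun r => by
    show ψ (algebraMap R K r) ∈ W
    rw [hψ]; exact hφW _
  have hVL : Function.Injective (algebraMap V L) := ψ.injective.comp Subtype.val_injective
  obtain ⟨t, ht⟩ := Algebra.FiniteType.out (R := R) (A := A)
  let S : Subalgebra V L := Algebra.adjoin V ((t.image φ : Finset L) : Set L)
  have : Algebra.FiniteType V S := S.fg_iff_finiteType.1 ⟨_, rfl⟩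
  have hAS : ∀ a, φ a ∈ S := fun a => by
    have ha : a ∈ Algebra.adjoin R (t : Set A) := by rw [ht]; trivial
    induction ha using Algebra.adjoin_induction with
    | mem z hz => exact Algebra.subset_adjoin (Finset.mem_coe.2 (Finset.mem_image_of_mem φ hz))
    | algebraMap r =>
      rw [show φ (algebraMap R A r) = algebraMap V L (ιV r) from (hψ r).symm]
      exact S.algebraMap_mem _
    | add a b _ _ ha hb => rw [map_add]; exact S.add_mem ha hb
    | mul a b _ _ ha hb => rw [map_mul]; exact S.mul_mem ha hb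
  let f : A →+* S := φ.codRestrict S.toSubring hAS
  have hSW : ∀ x ∈ S, x ∈ W := fun x hx => by
    induction hx using Algebra.adjoin_induction with
    | mem z hz =>
      obtain ⟨a, -, rfl⟩ := Finset.mem_image.1 (Finset.mem_coe.1 hz)
      exact hφW a
    | algebraMap v => exact v.2
    | add a b _ _ ha hb => exact add_mem ha hb
    | mul a b _ _ ha hb => exact mul_mem ha hb
  let i : S →+* W := (S.val.toRingHom).codRestrict W.toSubring fun x => hSW x.1 x.2
  let Q' : Ideal S := (maximalIdeal W).comap i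
  have hQ'V : ∀ v : V, v ∈ maximalIdeal V → algebraMap V S v ∈ Q' := fun v hv => by
    rw [Ideal.mem_comap, mem_maximalIdeal, mem_nonunits_iff]
    intro hunit
    rw [mem_maximalIdeal, mem_nonunits_iff] at hv
    refine hv ?_
    have hv0 : (v : K) ≠ 0 := fun e => hunit.ne_zero (Subtype.ext (by
      show ψ (v : K) = 0
      rw [e, map_zero]))
    obtain ⟨w, hw⟩ := hunit.exists_left_inv
    have hinv : (v : K)⁻¹ ∈ V := by
      show ψ (v : K)⁻¹ ∈ W
      rw [map_inv₀]
      have hw' : (w : L) * ψ (v : K) = 1 := congrArg Subtype.val hw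
      rw [← eq_inv_of_mul_eq_one_left hw']
      exact w.2
    exact IsUnit.of_mul_eq_one (⟨(v : K)⁻¹, hinv⟩ : V) (Subtype.ext (mul_inv_cancel₀ hv0))
  obtain ⟨Q'', hQ'', hle⟩ := Ideal.exists_le_maximal Q' (Ideal.IsPrime.comap i).ne_top
  have hQ''V : Q''.comap (algebraMap V S) = maximalIdeal V :=
    ((IsLocalRing.maximalIdeal.isMaximal V).eq_of_le (Ideal.IsPrime.comap _).ne_top
      fun v hv => hle (hQ'V v hv)).symm
  have hQle : Q ≤ Q''.comap f := fun a ha => hle ((hQW a).2 ha)
  have hιV : ∀ r, f (algebraMap R A r) = algebraMap V S (ιV r) := fun r => Subtype.ext (hψ r).symm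
  have hQf : Q''.comap f = Q := by
    refine hQmax _ (Ideal.IsPrime.comap f) (le_antisymm (fun r hr => ?_) (Ideal.comap_mono hQle)) hQle
    have h1 : ιV r ∈ maximalIdeal V := by
      rw [← hQ''V]
      show algebraMap V S (ιV r) ∈ Q''
      rw [← hιV]; exact hr
    have h2 := hQ'V _ h1
    rw [← hιV] at h2
    exact (hQW _).1 h2
  have hne : maximalIdeal V ≠ ⊥ := by
    obtain ⟨r, hr, hr0⟩ := (Submodule.ne_bot_iff _).1 hQ
    refine (Submodule.ne_bot_iff _).2 ⟨ιV r, ?_, fun e => hr0 (IsFractionRing.injective R K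
      ((congrArg Subtype.val e).trans (map_zero _).symm))⟩
    rw [← hQ''V]
    show algebraMap V S (ιV r) ∈ Q''
    rw [← hιV]; exact hQle hr
  have hinjVS : Function.Injective (algebraMap V S) := fun a b h => hVL (congrArg Subtype.val h)
  obtain ⟨P, hP, hPV, hPQ, hgP, hPmax⟩ := exists_prime_le_of_valuationRing V S hinjVS Q'' hQ''V hne (f g)
    fun e => hg (hφ ((congrArg Subtype.val e).trans (map_zero φ).symm))
  have hden : ∀ x : S, ∃ r : R, r ≠ 0 ∧ ∃ a : A, φ (algebraMap R A r) * (x : L) = φ a := by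
    rintro ⟨x, hx⟩
    induction hx using Algebra.adjoin_induction with
    | mem z hz =>
      obtain ⟨a, -, rfl⟩ := Finset.mem_image.1 (Finset.mem_coe.1 hz)
      exact ⟨1, one_ne_zero, a, by simp⟩
    | algebraMap v =>
      obtain ⟨a, b, hb, hv⟩ := IsFractionRing.div_surjective R (v : K)
      refine ⟨b, nonZeroDivisors.ne_zero hb, algebraMap R A a, ?_⟩
      show φ (algebraMap R A b) * ψ (v : K) = φ (algebraMap R A a)
      rw [← hψ, ← hψ, ← map_mul, ← hv, mul_div_cancel₀ _ (IsFractionRing.to_map_ne_zero_of_mem_nonZeroDivisors hb)]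
    | add a b _ _ ha hb =>
      obtain ⟨r, hr, x, hx⟩ := ha
      obtain ⟨s, hs, y, hy⟩ := hb
      refine ⟨r * s, mul_ne_zero hr hs, algebraMap R A s * x + algebraMap R A r * y, ?_⟩
      simp only [map_add, map_mul, ← hx, ← hy]
      ring
    | mul a b _ _ ha hb =>
      obtain ⟨r, hr, x, hx⟩ := ha
      obtain ⟨s, hs, y, hy⟩ := hb
      refine ⟨r * s, mul_ne_zero hr hs, x * y, ?_⟩
      simp only [map_mul, ← hx, ← hy]
      ring
  refine ⟨P.comap f, Ideal.IsPrime.comap f, eq_bot_iff.2 fun r hr => ?_, hQf ▸ Ideal.comap_mono hPQ, hgP,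
    fun P₁ hP₁ hP₁R hle₁ => ?_⟩
  · have : ιV r ∈ P.comap (algebraMap V S) := by
      show algebraMap V S (ιV r) ∈ P
      rw [← hιV]; exact hr
    rw [hPV, Ideal.mem_bot] at this
    exact IsFractionRing.injective R K ((congrArg Subtype.val this).trans (map_zero _).symm)
  · have hrP : ∀ r : R, r ≠ 0 → algebraMap R A r ∉ P₁ := fun r hr h => hr (by
      have : r ∈ P₁.comap (algebraMap R A) := h
      rwa [hP₁R] at this)
    have hcl : ∀ (x : S) (r : R) (a : A), r ≠ 0 → φ (algebraMap R A r) * (x : L) = φ a → a ∈ P₁ →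
        ∀ (s : R) (b : A), φ (algebraMap R A s) * (x : L) = φ b → b ∈ P₁ := fun x r a hr hx ha s b hb => by
      have e : algebraMap R A r * b = algebraMap R A s * a := hφ (by
        rw [map_mul, map_mul, ← hx, ← hb]; ring)
      exact (hP₁.mem_or_mem (e ▸ P₁.mul_mem_left _ ha : algebraMap R A r * b ∈ P₁)).resolve_left (hrP r hr)
    let T : Ideal S :=
      { carrier := {x | ∀ (r : R) (a : A), φ (algebraMap R A r) * (x : L) = φ a → a ∈ P₁}
        zero_mem' := fun r a h => by
          rw [hφ (h.symm.trans (by simp) : φ a = φ 0)]; exact P₁.zero_mem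
        add_mem' := by
          intro x y hx hy r a h
          obtain ⟨r₁, hr₁, a₁, h₁⟩ := hden x
          obtain ⟨r₂, hr₂, a₂, h₂⟩ := hden y
          refine hcl (x + y) (r₁ * r₂) (algebraMap R A r₂ * a₁ + algebraMap R A r₁ * a₂) (mul_ne_zero hr₁ hr₂) ?_
            (P₁.add_mem (P₁.mul_mem_left _ (hx r₁ a₁ h₁)) (P₁.mul_mem_left _ (hy r₂ a₂ h₂))) r a h
          simp only [map_add, map_mul, ← h₁, ← h₂, Subalgebra.coe_add]
          ring
        smul_mem' := by
          intro c x hx r a h
          obtain ⟨r₁, hr₁, a₁, h₁⟩ := hden c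
          obtain ⟨r₂, hr₂, a₂, h₂⟩ := hden x
          refine hcl (c • x) (r₁ * r₂) (a₁ * a₂) (mul_ne_zero hr₁ hr₂) ?_
            (P₁.mul_mem_left _ (hx r₂ a₂ h₂)) r a h
          simp only [map_mul, ← h₁, ← h₂, smul_eq_mul, Subalgebra.coe_mul]
          ring }
    have hTmem : ∀ (x : S) (r : R) (a : A), r ≠ 0 → φ (algebraMap R A r) * (x : L) = φ a → a ∈ P₁ → x ∈ T :=
      fun x r a hr hx ha => hcl x r a hr hx ha
    have hTp : T.IsPrime := by
      refine ⟨fun htop => hP₁.ne_top ((Ideal.eq_top_iff_one _).2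
        ((htop ▸ trivial : (1 : S) ∈ T) 1 1 (by simp))), fun {x y} hxy => ?_⟩
      obtain ⟨r₁, hr₁, a₁, h₁⟩ := hden x
      obtain ⟨r₂, hr₂, a₂, h₂⟩ := hden y
      have : a₁ * a₂ ∈ P₁ := hxy (r₁ * r₂) (a₁ * a₂) (by
        simp only [map_mul, ← h₁, ← h₂, Subalgebra.coe_mul]; ring)
      rcases hP₁.mem_or_mem this with h | h
      · exact Or.inl (hTmem x r₁ a₁ hr₁ h₁ h)
      · exact Or.inr (hTmem y r₂ a₂ hr₂ h₂ h)
    have hTV : T.comap (algebraMap V S) = ⊥ := eq_bot_iff.2 fun v hv => by
      obtain ⟨a, b, hb, hvab⟩ := IsFractionRing.div_surjective R (v : K)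
      have h' : algebraMap R A a ∈ P₁ := hv b _ (by
        show φ (algebraMap R A b) * ψ (v : K) = φ (algebraMap R A a)
        rw [← hψ, ← hψ, ← map_mul, ← hvab,
          mul_div_cancel₀ _ (IsFractionRing.to_map_ne_zero_of_mem_nonZeroDivisors hb)])
      have ha0 : a = 0 := by
        by_contra ha
        exact hrP a ha h'
      rw [Ideal.mem_bot]
      exact Subtype.ext (by rw [← hvab, ha0, map_zero, zero_div]; rfl)
    have hPT : P ≤ T := fun x hx => by
      obtain ⟨r, hr, a, h⟩ := hden x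
      refine hTmem x r a hr h (hle₁ ?_)
      have e : f a = f (algebraMap R A r) * x := Subtype.ext h.symm
      show f a ∈ P
      rw [e]; exact P.mul_mem_left _ hx
    refine le_antisymm (fun a ha => ?_) hle₁
    show f a ∈ P
    rw [← hPmax T hTp hTV hPT]
    exact hTmem (f a) 1 a one_ne_zero (by
      show φ (algebraMap R A 1) * φ a = φ a
      rw [map_one, map_one, one_mul]) ha

end Groth.Agent.FibDense
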