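import Groth.Agent.FibDense.Reduce
import Mathlib.AlgebraicGeometry.Fiber
import Mathlib.AlgebraicGeometry.Morphisms.FiniteType

/-!
# Closed points of a fibre between a specialisation
-/

set_option linter.style.haveILetI false

universe u

open AlgebraicGeometry CategoryTheory Limits TopologicalSpace

namespace Groth.Agent.FibDense

theorem exists_closedPoint_between {X S : Scheme.{u}} (f : X ⟶ S) [LocallyOfFiniteType f] (x x' : X)
    (hsp : x ⤳ x') (hne : f x ≠ f x') (hcl : ∀ z, f z = f x' → x' ⤳ z → z = x')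
    (W : Set X) (hW : IsOpen W) (hxW : x ∈ W) :
    ∃ x₁ ∈ W, f x₁ = f x ∧ x ⤳ x₁ ∧ x₁ ⤳ x' ∧ IsClosed (Subtype.val ⁻¹' {x₁} : Set ↑(f ⁻¹' {f x})) := by
  obtain ⟨_, ⟨V, hV', rfl⟩, hfV, -⟩ :=
    S.isBasis_affineOpens.exists_subset_of_mem_open (Set.mem_univ (f x')) isOpen_univ
  obtain ⟨_, ⟨U, hU', rfl⟩, hx'U, hUV⟩ := X.isBasis_affineOpens.exists_subset_of_mem_open
    (show x' ∈ ((f ⁻¹ᵁ V : X.Opens) : Set X) from hfV) (f ⁻¹ᵁ V).2
  replace hU' : IsAffineOpen U := hU'
  replace hV' : IsAffineOpen V := hV'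
  have hxU : x ∈ U := hsp.mem_open U.2 hx'U
  let A₀ := Γ(X, U)
  let R₀ := Γ(S, V)
  let φ : R₀ ⟶ A₀ := f.appLE V U hUV
  have hemb : Topology.IsOpenEmbedding hU'.fromSpec := hU'.fromSpec.isOpenEmbedding
  have hembV : Topology.IsOpenEmbedding hV'.fromSpec := hV'.fromSpec.isOpenEmbedding
  obtain ⟨q, hq⟩ : ∃ q : PrimeSpectrum A₀, hU'.fromSpec q = x := by
    have : x ∈ Set.range hU'.fromSpec := by rw [hU'.range_fromSpec]; exact hxU
    exact this
  obtain ⟨Q₀, hQ₀⟩ : ∃ Q₀ : PrimeSpectrum A₀, hU'.fromSpec Q₀ = x' := by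
    have : x' ∈ Set.range hU'.fromSpec := by rw [hU'.range_fromSpec]; exact hx'U
    exact this
  have hmap : ∀ p : PrimeSpectrum A₀, f (hU'.fromSpec p) = hV'.fromSpec (PrimeSpectrum.comap φ.hom p) := fun p => by
    have := congrArg (fun h : Spec A₀ ⟶ S => h p) (IsAffineOpen.SpecMap_appLE_fromSpec f hV' hU' hUV)
    exact this.symm
  have hle : ∀ p p' : PrimeSpectrum A₀, p.asIdeal ≤ p'.asIdeal ↔ hU'.fromSpec p ⤳ hU'.fromSpec p' := fun p p' =>
    ((PrimeSpectrum.le_iff_specializes p p').trans hemb.isInducing.specializes_iff.symm)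
  have hqQ : q.asIdeal ≤ Q₀.asIdeal := (hle q Q₀).2 (by rw [hq, hQ₀]; exact hsp)
  obtain ⟨g, hgq, hgW⟩ : ∃ g : A₀, g ∉ q.asIdeal ∧ ∀ p : PrimeSpectrum A₀, g ∉ p.asIdeal → hU'.fromSpec p ∈ W := by
    obtain ⟨_, ⟨g, rfl⟩, hgq, hgW⟩ := PrimeSpectrum.isTopologicalBasis_basic_opens.exists_subset_of_mem_open
      (show q ∈ hU'.fromSpec ⁻¹' W by show hU'.fromSpec q ∈ W; rw [hq]; exact hxW) (hW.preimage hU'.fromSpec.continuous)
    exact ⟨g, hgq, fun p hp => hgW hp⟩
  let A := A₀ ⧸ q.asIdeal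
  let r := q.asIdeal.comap φ.hom
  let R := R₀ ⧸ r
  let mk := Ideal.Quotient.mk q.asIdeal
  letI : Algebra R A := (Ideal.quotientMap q.asIdeal φ.hom le_rfl).toAlgebra
  haveI : r.IsPrime := Ideal.IsPrime.comap _
  have hinj : Function.Injective (algebraMap R A) := Ideal.quotientMap_injective
  have hφft : φ.hom.FiniteType := f.finiteType_appLE hV' hU' hUV
  haveI : Algebra.FiniteType R A := by
    have h1 : ((Ideal.quotientMap q.asIdeal φ.hom le_rfl).comp (Ideal.Quotient.mk r)).FiniteType := by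
      rw [Ideal.quotientMap_comp_mk]
      exact (RingHom.FiniteType.of_surjective mk Ideal.Quotient.mk_surjective).comp hφft
    exact RingHom.FiniteType.of_comp_finiteType h1
  have hlift : ∀ (P : Ideal A) (a : R₀),
      a ∈ (P.comap mk).comap φ.hom ↔ Ideal.Quotient.mk r a ∈ P.comap (algebraMap R A) := fun P a => Iff.rfl
  let Q := Q₀.asIdeal.map mk
  have hQc : Q.comap mk = Q₀.asIdeal := by
    rw [Ideal.comap_map_of_surjective _ Ideal.Quotient.mk_surjective, ← RingHom.ker_eq_comap_bot, Ideal.mk_ker,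
      sup_eq_left.2 hqQ]
  haveI : Q.IsPrime := Ideal.map_isPrime_of_surjective Ideal.Quotient.mk_surjective (by rw [Ideal.mk_ker]; exact hqQ)
  have hQ : Q.comap (algebraMap R A) ≠ ⊥ := fun h => hne (by
    rw [← hq, ← hQ₀, hmap, hmap]
    refine congrArg _ (PrimeSpectrum.ext (Ideal.ext fun a => ?_))
    show a ∈ r ↔ a ∈ Q₀.asIdeal.comap φ.hom
    rw [← hQc, hlift, h, Ideal.mem_bot, Ideal.Quotient.eq_zero_iff_mem])
  have hQmax : ∀ Q' : Ideal A, Q'.IsPrime → Q'.comap (algebraMap R A) = Q.comap (algebraMap R A) → Q ≤ Q' →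
      Q' = Q := fun Q' hQ' he hQQ' => by
    let p' : PrimeSpectrum A₀ := ⟨Q'.comap mk, Ideal.IsPrime.comap _⟩
    have h1 : f (hU'.fromSpec p') = f x' := by
      rw [← hQ₀, hmap, hmap]
      refine congrArg _ (PrimeSpectrum.ext (Ideal.ext fun a => ?_))
      show a ∈ (Q'.comap mk).comap φ.hom ↔ a ∈ Q₀.asIdeal.comap φ.hom
      rw [← hQc, hlift, hlift, he]
    have h2 : x' ⤳ hU'.fromSpec p' := by
      rw [← hQ₀]
      exact (hle Q₀ p').1 (by rw [← hQc]; exact Ideal.comap_mono hQQ')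
    have h3 : p' = Q₀ := hemb.injective ((hcl _ h1 h2).trans hQ₀.symm)
    refine Ideal.comap_injective_of_surjective mk Ideal.Quotient.mk_surjective ?_
    rw [hQc]
    exact congrArg PrimeSpectrum.asIdeal h3
  obtain ⟨P, hP, hPR, hPQ, hgP, hPmax⟩ := exists_prime_le hinj Q hQ hQmax (mk g)
    (fun h => hgq (Ideal.Quotient.eq_zero_iff_mem.1 h))
  let p₁ : PrimeSpectrum A₀ := ⟨P.comap mk, Ideal.IsPrime.comap _⟩
  have hqp : q.asIdeal ≤ p₁.asIdeal := fun a ha => by
    show mk a ∈ P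
    rw [Ideal.Quotient.eq_zero_iff_mem.2 ha]; exact P.zero_mem
  have hfp : f (hU'.fromSpec p₁) = f x := by
    rw [← hq, hmap, hmap]
    refine congrArg _ (PrimeSpectrum.ext (Ideal.ext fun a => ?_))
    show a ∈ (P.comap mk).comap φ.hom ↔ a ∈ r
    rw [hlift, hPR, Ideal.mem_bot, Ideal.Quotient.eq_zero_iff_mem]
  have hxx₁ : x ⤳ hU'.fromSpec p₁ := by rw [← hq]; exact (hle q p₁).1 hqp
  refine ⟨hU'.fromSpec p₁, hgW p₁ hgP, hfp, hxx₁, ?_, ?_⟩
  · rw [← hQ₀]
    exact (hle p₁ Q₀).1 (by rw [← hQc]; exact Ideal.comap_mono hPQ)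
  -- closedness in the fibre: the point is locally closed and the fibre is Jacobson
  let pt : ↑(f ⁻¹' {f x}) := ⟨hU'.fromSpec p₁, hfp⟩
  let e := f.fiberHomeo (f x)
  haveI : JacobsonSpace ↑(f ⁻¹' {f x}) := JacobsonSpace.of_isClosedEmbedding e.symm.isClosedEmbedding
  suffices IsClosed ({pt} : Set ↑(f ⁻¹' {f x})) by
    convert this using 1
    exact Set.ext fun z => ⟨fun h => Subtype.ext h, fun h => congrArg Subtype.val h⟩
  refine isClosed_singleton_of_isLocallyClosed_singleton ?_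
  have hset : ({pt} : Set ↑(f ⁻¹' {f x})) = Subtype.val ⁻¹' (U : Set X) ∩ closure {pt} := by
    refine Set.Subset.antisymm (fun z hz => ?_) (fun z hz => ?_)
    · rw [Set.mem_singleton_iff.1 hz]
      refine ⟨?_, subset_closure rfl⟩
      show hU'.fromSpec p₁ ∈ (U : Set X)
      rw [← hU'.range_fromSpec]
      exact ⟨p₁, rfl⟩
    · obtain ⟨hzU, hzc⟩ := hz
      have hsp' : hU'.fromSpec p₁ ⤳ z.1 :=
        subtype_specializes_iff pt z |>.1 (specializes_iff_mem_closure.2 hzc)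
      obtain ⟨p', hp'⟩ : z.1 ∈ Set.range hU'.fromSpec := by rw [hU'.range_fromSpec]; exact hzU
      have hp1 : p₁.asIdeal ≤ p'.asIdeal := (hle p₁ p').2 (by rw [hp']; exact hsp')
      have hqp' : q.asIdeal ≤ p'.asIdeal := hqp.trans hp1
      let P' := p'.asIdeal.map mk
      have hP'c : P'.comap mk = p'.asIdeal := by
        rw [Ideal.comap_map_of_surjective _ Ideal.Quotient.mk_surjective, ← RingHom.ker_eq_comap_bot, Ideal.mk_ker,
          sup_eq_left.2 hqp']
      haveI : P'.IsPrime := Ideal.map_isPrime_of_surjective Ideal.Quotient.mk_surjective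
        (by rw [Ideal.mk_ker]; exact hqp')
      have hfib : hV'.fromSpec (PrimeSpectrum.comap φ.hom p') = hV'.fromSpec (PrimeSpectrum.comap φ.hom q) := by
        rw [← hmap, ← hmap, hp', hq]
        exact z.2
      have hcomap := congrArg PrimeSpectrum.asIdeal (hembV.injective hfib)
      have hP'R : P'.comap (algebraMap R A) = ⊥ := eq_bot_iff.2 fun a ha => by
        obtain ⟨a, rfl⟩ := Ideal.Quotient.mk_surjective a
        rw [Ideal.mem_bot, Ideal.Quotient.eq_zero_iff_mem]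
        have h4 : a ∈ (PrimeSpectrum.comap φ.hom p').asIdeal := by
          show a ∈ p'.asIdeal.comap φ.hom
          rw [← hP'c, hlift]; exact ha
        rw [hcomap] at h4
        exact h4
      have hPP' : P ≤ P' := fun a ha => by
        obtain ⟨a, rfl⟩ := Ideal.Quotient.mk_surjective a
        exact Ideal.mem_map_of_mem _ (hp1 ha)
      have h5 := hPmax P' inferInstance hP'R hPP'
      have h6 : p' = p₁ := PrimeSpectrum.ext (by rw [← hP'c, h5])
      exact Set.mem_singleton_iff.2 (Subtype.ext (by show z.1 = hU'.fromSpec p₁; rw [← hp', h6]))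
  rw [hset]
  exact ((U.2.preimage continuous_subtype_val).isLocallyClosed).inter isClosed_closure.isLocallyClosed

end Groth.Agent.FibDense
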